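import Mathlib

/-!
# The local action at a totally ramified point of an Artin–Schreier cover

For `u` with `u ^ n * (1 + X ^ n) = 1` and `b : ℤ`, the operator `h ↦ u ^ b * h(X u)` on `k⟦X⟧`
has order `p`; the kernel of its norm, modulo the image of `T - 1`, is detected by the coefficients
in degrees `e < n` with `p ∤ b + e - n`.
-/

noncomputable section

open PowerSeries Finset

namespace Groth.Agent.ASCoverX

variable {k : Type*} [Field k] (U : (k⟦X⟧)ˣ)

theorem hasSubst_X_mul (f : k⟦X⟧) : HasSubst (X * f : k⟦X⟧) :=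
  HasSubst.of_constantCoeff_zero' (by simp)

/-- The substitution `X ↦ X u`. -/
def σ : k⟦X⟧ →ₐ[k] k⟦X⟧ := substAlgHom (hasSubst_X_mul (U : k⟦X⟧))

theorem σ_apply (f : k⟦X⟧) : σ U f = subst (X * (U : k⟦X⟧)) f := by
  rw [σ, coe_substAlgHom]

theorem σ_X : σ U X = X * (U : k⟦X⟧) := by
  rw [σ_apply, subst_X (hasSubst_X_mul _)]

/-- The twisted operator `h ↦ u ^ b * h(X u)`. -/
def T (b : ℤ) : k⟦X⟧ →ₗ[k] k⟦X⟧ :=
  (LinearMap.mulLeft k ((U ^ b : (k⟦X⟧)ˣ) : k⟦X⟧)).comp (σ U).toLinearMap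

theorem T_apply (b : ℤ) (f : k⟦X⟧) : T U b f = ((U ^ b : (k⟦X⟧)ˣ) : k⟦X⟧) * σ U f := rfl

theorem X_pow_mul_T (a : ℤ) (m : ℕ) (f : k⟦X⟧) :
    X ^ m * T U a f = T U (a - m) (X ^ m * f) := by
  rw [T_apply, T_apply, map_mul, map_pow, σ_X, mul_pow, ← Units.val_pow_eq_pow_val]
  rw [show U ^ a = U ^ (a - m) * U ^ m by rw [← zpow_natCast, ← zpow_add, sub_add_cancel]]
  push_cast
  ring

/-- `T - 1`. -/
def D (b : ℤ) : k⟦X⟧ →ₗ[k] k⟦X⟧ := T U b - LinearMap.id

theorem D_apply (b : ℤ) (f : k⟦X⟧) : D U b f = T U b f - f := rfl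

theorem X_pow_mul_D (a : ℤ) (m : ℕ) (f : k⟦X⟧) :
    X ^ m * D U a f = D U (a - m) (X ^ m * f) := by
  rw [D_apply, D_apply, mul_sub, X_pow_mul_T]

/-- The hypotheses on the twisting unit. -/
structure IsBreak (p n : ℕ) : Prop where
  pos : 0 < n
  ndvd : ¬ p ∣ n
  const : constantCoeff (U : k⟦X⟧) = 1
  root : (U : k⟦X⟧) ^ n * (1 + X ^ n) = 1

variable {U} {p n : ℕ}

theorem IsBreak.cast_ne [CharP k p] (H : IsBreak U p n) : (n : k) ≠ 0 :=
  fun h => H.ndvd ((CharP.cast_eq_zero_iff k p n).mp h)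

theorem eq_one_of_pow_eq_one {f : k⟦X⟧} (hn : (n : k) ≠ 0) (h0 : constantCoeff f = 1)
    (h : f ^ n = 1) : f = 1 := by
  have hg := geom_sum_mul f n
  rw [h, sub_self, mul_eq_zero] at hg
  rcases hg with hg | hg
  · refine absurd ?_ hn
    have := congrArg constantCoeff hg
    simpa [h0] using this
  · exact sub_eq_zero.mp hg

/-- Coefficients of `u` up to degree `2 n`. -/
theorem IsBreak.coeff_u [CharP k p] (H : IsBreak U p n) :
    ∃ w : k, (n : k) * w = -1 ∧
      X ^ (2 * n) ∣ ((U : k⟦X⟧) - (1 + C w * X ^ n)) := by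
  have hn := H.cast_ne
  obtain ⟨S, hS, hS0⟩ : ∃ S, S * ((U : k⟦X⟧) - 1) = (U : k⟦X⟧) ^ n - 1 ∧ constantCoeff S = n :=
    ⟨_, geom_sum_mul _ n, by simp [H.const]⟩
  have hS' : IsUnit S := isUnit_iff_constantCoeff.mpr (by rw [hS0]; exact hn.isUnit)
  obtain ⟨v, hv⟩ : X ^ n ∣ (U : k⟦X⟧) - 1 := hS'.dvd_mul_left.mp
    ⟨-(U : k⟦X⟧) ^ n, by rw [hS]; linear_combination H.root⟩
  refine ⟨-(n : k)⁻¹, by rw [mul_neg, mul_inv_cancel₀ hn], ?_⟩
  -- modulo `X ^ (2 n)` the element `ε = X ^ n` squares to zero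
  let q := Ideal.Quotient.mk (Ideal.span {(X : k⟦X⟧) ^ (2 * n)})
  rw [← Ideal.mem_span_singleton, ← Ideal.Quotient.eq_zero_iff_mem]
  have e2 : q (X ^ n) * q (X ^ n) = 0 := by
    rw [← map_mul, ← pow_add, ← two_mul]
    exact Ideal.Quotient.eq_zero_iff_mem.mpr (Ideal.mem_span_singleton_self _)
  have hu : q (U : k⟦X⟧) = 1 + q (X ^ n) * q v := by
    rw [← map_mul, ← hv, map_sub, map_one]; ring
  have h1 : q (U : k⟦X⟧) ^ n = 1 + (n : _) * (q (X ^ n) * q v) := by
    rw [hu]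
    exact one_add_mul_self_eq e2 _ _
  have h2 := congrArg q H.root
  rw [map_mul, map_pow, h1, map_add, map_one] at h2
  have hc : q (C (n : k)⁻¹) * (n : _) = 1 := by
    rw [← map_natCast (q.comp C) n, RingHom.comp_apply, ← map_mul, ← map_mul,
      inv_mul_cancel₀ hn, map_one, map_one]
  change q _ = 0
  rw [map_sub, map_add, map_one, map_mul, map_neg, map_neg, hu]
  linear_combination q (C (n : k)⁻¹) * h2 - q (X ^ n) * q v * hc
    - q (C (n : k)⁻¹) * (n : _) * q v * e2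
where
  one_add_mul_self_eq {R : Type _} [CommRing R] {e : R} (he : e * e = 0) (x : R) (m : ℕ) :
      (1 + e * x) ^ m = 1 + (m : R) * (e * x) := by
    induction m with
    | zero => simp
    | succ m ih => rw [pow_succ, ih]; push_cast; linear_combination ((m : R) * x * x) * he

/-- The leading slope `- 1 / n`. -/
def slope (n : ℕ) : k := -(n : k)⁻¹

variable [CharP k p]

theorem IsBreak.slope_ne (H : IsBreak U p n) : slope (k := k) n ≠ 0 :=
  neg_ne_zero.mpr (inv_ne_zero H.cast_ne)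

/-- Coefficients of the powers of `u` up to degree `2 n`. -/
theorem IsBreak.zpow_expansion (H : IsBreak U p n) (b : ℤ) :
    X ^ (2 * n) ∣ (((U ^ b : (k⟦X⟧)ˣ) : k⟦X⟧) - (1 + C ((b : k) * slope n) * X ^ n)) := by
  obtain ⟨w, hw, hdvd⟩ := H.coeff_u
  have hw' : w = slope n := by
    rw [slope, ← mul_right_inj' H.cast_ne, hw, mul_neg, mul_inv_cancel₀ H.cast_ne]
  subst hw'
  let I := Ideal.span {(X : k⟦X⟧) ^ (2 * n)}
  let q := Ideal.Quotient.mk I
  have e2 : q (X ^ n) * q (X ^ n) = 0 := by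
    rw [← map_mul, ← pow_add, ← two_mul]
    exact Ideal.Quotient.eq_zero_iff_mem.mpr (Ideal.mem_span_singleton_self _)
  have hU : q (U : k⟦X⟧) = 1 + q (C (slope n)) * q (X ^ n) := by
    rw [← sub_eq_zero, ← map_one q, ← map_mul, ← map_add, ← map_sub]
    exact Ideal.Quotient.eq_zero_iff_mem.mpr (Ideal.mem_span_singleton.mpr hdvd)
  have key : q ((U ^ b : (k⟦X⟧)ˣ) : k⟦X⟧) = 1 + (b : _) * (q (C (slope n)) * q (X ^ n)) := by
    induction b using Int.induction_on with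
    | zero => simp
    | succ i ih =>
      rw [zpow_add_one, Units.val_mul, map_mul, ih, hU]
      push_cast
      linear_combination ((i : _) * q (C (slope n)) * q (C (slope n))) * e2
    | pred i ih =>
      refine (U.isUnit.map q).mul_right_cancel ?_
      rw [← map_mul, ← Units.val_mul, ← zpow_add_one, sub_add_cancel, ih, hU]
      push_cast
      linear_combination ((i : _) + 1) * q (C (slope n)) * q (C (slope n)) * e2
  rw [← Ideal.mem_span_singleton, ← Ideal.Quotient.eq_zero_iff_mem]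
  change q _ = 0
  rw [map_sub, key, map_add, map_one]
  simp only [map_mul, map_intCast]
  ring

theorem IsBreak.coeff_zpow (H : IsBreak U p n) (b : ℤ) {j : ℕ} (hj : j < 2 * n) :
    coeff j (((U ^ b : (k⟦X⟧)ˣ) : k⟦X⟧) - 1) = if j = n then (b : k) * slope n else 0 := by
  have h := X_pow_dvd_iff.mp (H.zpow_expansion b) j hj
  rw [sub_add_eq_sub_sub, map_sub, sub_eq_zero] at h
  rw [h, coeff_C_mul, coeff_X_pow]
  split_ifs <;> simp

theorem IsBreak.σ_sub_dvd (H : IsBreak U p n) (f : k⟦X⟧) : X ^ (n + 1) ∣ σ U f - f := by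
  let I := Ideal.span {(X : k⟦X⟧) ^ (n + 1)}
  let q := Ideal.Quotient.mkₐ k I
  have hX : q (σ U X) = q X := by
    refine Ideal.Quotient.eq.mpr (Ideal.mem_span_singleton.mpr ?_)
    rw [σ_X, show X * (U : k⟦X⟧) - X = X * ((U : k⟦X⟧) - 1) by ring, pow_succ']
    refine mul_dvd_mul_left _ (X_pow_dvd_iff.mpr fun j hj => ?_)
    have := H.coeff_zpow 1 (j := j) (by omega)
    simpa [hj.ne] using this
  have hh : (q.comp (σ U)).comp (Polynomial.aeval X) = q.comp (Polynomial.aeval X) :=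
    Polynomial.algHom_ext (by simpa using hX)
  obtain ⟨g, hg⟩ : X ^ (n + 1) ∣ f - Polynomial.aeval X (trunc (n + 1) f) := by
    rw [Polynomial.aeval_def, PowerSeries.algebraMap_eq, Polynomial.eval₂_C_X_eq_coe]
    refine X_pow_dvd_iff.mpr fun j hj => ?_
    rw [map_sub, Polynomial.coeff_coe, coeff_trunc, if_pos hj, sub_self]
  obtain ⟨g', hg'⟩ : X ^ (n + 1) ∣ σ U (Polynomial.aeval X (trunc (n + 1) f))
      - Polynomial.aeval X (trunc (n + 1) f) :=
    Ideal.mem_span_singleton.mp (Ideal.Quotient.eq.mp (DFunLike.congr_fun hh _))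
  refine ⟨g' + (U : k⟦X⟧) ^ (n + 1) * σ U g - g, ?_⟩
  have := congrArg (σ U) hg
  rw [map_sub, map_mul, map_pow, σ_X, mul_pow] at this
  linear_combination this - hg + hg'

/-- The effect of `T - 1` on leading terms. -/
theorem IsBreak.D_lead (H : IsBreak U p n) (b : ℤ) {d : ℕ} {f : k⟦X⟧} (hf : X ^ d ∣ f) :
    X ^ (d + n) ∣ D U b f ∧
      coeff (d + n) (D U b f) = ((b + d : ℤ) : k) * slope n * coeff d f := by
  obtain ⟨g, rfl⟩ := hf
  have e : D U b (X ^ d * g) = X ^ d * D U (b + d) g := by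
    rw [X_pow_mul_D, add_sub_cancel_right]
  obtain ⟨r, hr⟩ := H.σ_sub_dvd g
  obtain ⟨r', hr'⟩ := H.zpow_expansion (b + d)
  have e' : D U (b + d) g = X ^ n * (C (((b + d : ℤ) : k) * slope n) * g
      + X * (((U ^ (b + d) : (k⟦X⟧)ˣ) : k⟦X⟧) * r) + X ^ n * (r' * g)) := by
    rw [D_apply, T_apply]
    calc ((U ^ (b + d) : (k⟦X⟧)ˣ) : k⟦X⟧) * σ U g - g
        = ((U ^ (b + d) : (k⟦X⟧)ˣ) : k⟦X⟧) * (σ U g - g)
          + (((U ^ (b + d) : (k⟦X⟧)ˣ) : k⟦X⟧) - 1) * g := by ring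
      _ = _ := by rw [hr]; linear_combination g * hr'
  rw [e, e', ← mul_assoc, ← pow_add]
  refine ⟨dvd_mul_right _ _, ?_⟩
  have h1 : ∀ h : k⟦X⟧, coeff (d + n) (X ^ (d + n) * h) = coeff 0 h := fun h => by
    simpa using coeff_X_pow_mul h (d + n) 0
  have h2 : coeff d (X ^ d * g) = coeff 0 g := by simpa using coeff_X_pow_mul g d 0
  rw [h1, h2]
  simp [zero_pow H.pos.ne']

theorem IsBreak.D_dvd (H : IsBreak U p n) (b : ℤ) {d : ℕ} {f : k⟦X⟧} (hf : X ^ d ∣ f) :
    X ^ (d + n) ∣ D U b f := (H.D_lead b hf).1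

theorem IsBreak.coeff_D_eq_zero (H : IsBreak U p n) (b : ℤ) (f : k⟦X⟧) {e : ℕ} (he : e < n) :
    coeff e (D U b f) = 0 :=
  X_pow_dvd_iff.mp (H.D_dvd b (d := 0) (by simp)) e (by omega)

/-! ### Order `p` -/

variable (U) in
/-- The units `u · σ(u) ⋯`. -/
def P : ℕ → (k⟦X⟧)ˣ
  | 0 => 1
  | j + 1 => U * Units.map (σ U : k⟦X⟧ →* k⟦X⟧) (P j)

omit [CharP k p] in
theorem T_pow_apply (b : ℤ) (j : ℕ) (f : k⟦X⟧) :
    (T U b ^ j) f = ((P U j ^ b : (k⟦X⟧)ˣ) : k⟦X⟧) * subst (X * (P U j : k⟦X⟧)) f := by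
  induction j with
  | zero => simp [P, X_subst]
  | succ j ih =>
    rw [pow_succ', Module.End.mul_apply, ih, T_apply, map_mul, σ_apply U (subst _ _),
      subst_comp_subst_apply (hasSubst_X_mul _) (hasSubst_X_mul _), P, mul_zpow,
      ← map_zpow, subst_mul (hasSubst_X_mul _), subst_X (hasSubst_X_mul _), Units.val_mul,
      Units.val_mul, Units.coe_map, Units.coe_map, ← σ_apply]
    simp only [MonoidHom.coe_coe, mul_assoc]

omit [CharP k p] in
theorem constantCoeff_σ (f : k⟦X⟧) : constantCoeff (σ U f) = constantCoeff f := by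
  obtain ⟨g, hg⟩ : X ∣ f - C (constantCoeff f) := X_dvd_iff.mpr (by simp)
  rw [eq_add_of_sub_eq hg, map_add (σ U), map_mul (σ U), σ_X, ← algebraMap_eq, AlgHom.commutes,
    algebraMap_eq]
  simp

omit [CharP k p] in
theorem IsBreak.P_pow (H : IsBreak U p n) (j : ℕ) :
    constantCoeff (P U j : k⟦X⟧) = 1 ∧ (P U j : k⟦X⟧) ^ n * (1 + (j : k⟦X⟧) * X ^ n) = 1 := by
  induction j with
  | zero => simp [P]
  | succ j ih =>
    have hval : (P U (j + 1) : k⟦X⟧) = (U : k⟦X⟧) * σ U (P U j : k⟦X⟧) := rfl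
    rw [hval]
    constructor
    · rw [map_mul, H.const, one_mul, constantCoeff_σ, ih.1]
    · have := congrArg (σ U) ih.2
      rw [map_mul, map_pow, map_add, map_one, map_mul, map_natCast, map_pow, σ_X, mul_pow] at this
      push_cast
      linear_combination this + (σ U (P U j : k⟦X⟧)) ^ n * H.root

theorem IsBreak.T_pow_p (H : IsBreak U p n) (b : ℤ) : T U b ^ p = 1 := by
  have hP : P U p = 1 := by
    refine Units.ext (eq_one_of_pow_eq_one H.cast_ne (H.P_pow p).1 ?_)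
    have h := (H.P_pow p).2
    rwa [← map_natCast (C (R := k)) p, CharP.cast_eq_zero, map_zero, zero_mul, add_zero,
      mul_one] at h
  refine LinearMap.ext fun f => ?_
  rw [T_pow_apply, hP]
  simp [X_subst]

variable (U) in
/-- The norm. -/
def Nrm (p : ℕ) (b : ℤ) : k⟦X⟧ →ₗ[k] k⟦X⟧ := ∑ i ∈ range p, T U b ^ i

omit [CharP k p] in
theorem X_pow_mul_T_pow (a : ℤ) (m i : ℕ) (f : k⟦X⟧) :
    X ^ m * (T U a ^ i) f = (T U (a - m) ^ i) (X ^ m * f) := by
  induction i with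
  | zero => simp
  | succ i ih => simp only [pow_succ', Module.End.mul_apply, X_pow_mul_T, ih]

theorem IsBreak.Nrm_of_mul (H : IsBreak U p n) (a : ℤ) {m : ℕ} {c : k⟦X⟧}
    (hc : X ^ m * c = ((U ^ (a - m) : (k⟦X⟧)ˣ) : k⟦X⟧) - 1) : Nrm U p a c = 0 := by
  have hone : D U (a - m) 1 = X ^ m * c := by
    rw [hc, D_apply, T_apply, map_one, mul_one]
  suffices h : X ^ m * Nrm U p a c = 0 from
    (mul_eq_zero.mp h).resolve_left (pow_ne_zero _ X_ne_zero)
  rw [Nrm, LinearMap.sum_apply, Finset.mul_sum]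
  simp_rw [X_pow_mul_T_pow, ← hone, D_apply, map_sub, ← Module.End.mul_apply, ← pow_succ]
  rw [Finset.sum_range_sub (fun i => (T U (a - m) ^ i) (1 : k⟦X⟧)), H.T_pow_p, pow_zero, sub_self]

variable [Fact p.Prime]

theorem Nrm_eq_D_pow (b : ℤ) : Nrm U p b = D U b ^ (p - 1) := by
  have h : ((Polynomial.X : Polynomial k) - 1) ^ (p - 1) = ∑ i ∈ range p, Polynomial.X ^ i := by
    have hne : (Polynomial.X : Polynomial k) - 1 ≠ 0 := by
      rw [← map_one Polynomial.C]; exact Polynomial.X_sub_C_ne_zero 1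
    refine mul_right_cancel₀ hne ?_
    rw [← pow_succ, Nat.sub_add_cancel (Fact.out : p.Prime).one_le, geom_sum_mul, sub_pow_char,
      one_pow]
  have := congrArg (Polynomial.aeval (T U b)) h
  simp only [map_pow, map_sub, map_sum, Polynomial.aeval_X, map_one] at this
  exact this.symm

/-- Leading terms of elements killed by the norm. -/
theorem IsBreak.coeff_eq_zero_of_Nrm (H : IsBreak U p n) (b : ℤ) {d : ℕ} {f : k⟦X⟧}
    (hf : X ^ d ∣ f) (hN : Nrm U p b f = 0) (hd : (p : ℤ) ∣ b + d - n) : coeff d f = 0 := by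
  have key : ∀ j : ℕ, X ^ (d + j * n) ∣ (D U b ^ j) f ∧ coeff (d + j * n) ((D U b ^ j) f) =
      (∏ i ∈ range j, ((b + (d + i * n : ℕ) : ℤ) : k) * slope n) * coeff d f := by
    intro j
    induction j with
    | zero => simpa using hf
    | succ j ih =>
      obtain ⟨h1, h2⟩ := H.D_lead b ih.1
      rw [pow_succ', Module.End.mul_apply, show d + (j + 1) * n = d + j * n + n by ring]
      exact ⟨h1, by rw [h2, ih.2, Finset.prod_range_succ]; ring⟩
  have h := (key (p - 1)).2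
  rw [← Nrm_eq_D_pow, hN, map_zero] at h
  refine (mul_eq_zero.mp h.symm).resolve_left (Finset.prod_ne_zero_iff.mpr fun i hi => ?_)
  refine mul_ne_zero (fun h0 => ?_) H.slope_ne
  have h' : (p : ℤ) ∣ b + (d + i * n : ℕ) := (CharP.intCast_eq_zero_iff k p _).mp h0
  have h'' : (p : ℤ) ∣ (((i + 1) * n : ℕ) : ℤ) := by
    have := dvd_sub h' hd
    rwa [show b + ((d + i * n : ℕ) : ℤ) - (b + d - n) = (((i + 1) * n : ℕ) : ℤ) by
      push_cast; ring] at this
  rcases (Fact.out : p.Prime).dvd_mul.mp (Int.natCast_dvd_natCast.mp h'') with h3 | h3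
  · have := Nat.le_of_dvd (Nat.succ_pos i) h3
    have := Finset.mem_range.mp hi
    omega
  · exact H.ndvd h3

/-- The degrees detecting classes. -/
def E (p n : ℕ) (b : ℤ) : Finset ℕ := (Finset.range n).filter fun e : ℕ => ¬ (p : ℤ) ∣ b + e - n

theorem IsBreak.Nrm_T (H : IsBreak U p n) (b : ℤ) (f : k⟦X⟧) :
    Nrm U p b (D U b f) = 0 := by
  rw [Nrm, LinearMap.sum_apply]
  simp_rw [D_apply, map_sub, ← Module.End.mul_apply, ← pow_succ]
  rw [Finset.sum_range_sub (fun i => (T U b ^ i) f), H.T_pow_p, pow_zero, sub_self]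

/-- An element killed by the norm whose detecting coefficients vanish is in the image of `T - 1`. -/
theorem IsBreak.mem_range_D (H : IsBreak U p n) (b : ℤ) {f : k⟦X⟧} (hN : Nrm U p b f = 0)
    (hE : ∀ e ∈ E p n b, coeff e f = 0) : ∃ h, D U b h = f := by
  classical
  have h0 : X ^ n ∣ f := by
    suffices ∀ d ≤ n, X ^ d ∣ f from this n le_rfl
    intro d hd
    induction d with
    | zero => simp
    | succ d ih =>
      refine X_pow_dvd_iff.mpr fun j hj => ?_
      rcases (Nat.le_of_lt_succ hj).lt_or_eq with hj | rfl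
      · exact X_pow_dvd_iff.mp (ih (by omega)) j hj
      · by_cases hc : (p : ℤ) ∣ b + j - n
        · exact H.coeff_eq_zero_of_Nrm b (ih (by omega)) hN hc
        · exact hE j (by simp [E, hc]; omega)
  let c : k⟦X⟧ → ℕ → k := fun r d => coeff (d + n) r / (((b + d : ℤ) : k) * slope n)
  let rem : ℕ → k⟦X⟧ := fun d => Nat.rec f (fun d r => r - D U b (C (c r d) * X ^ d)) d
  have hrem : ∀ d, X ^ (d + n) ∣ rem d ∧ Nrm U p b (rem d) = 0 := by
    intro d
    induction d with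
    | zero => exact ⟨by simpa [rem] using h0, hN⟩
    | succ d ih =>
      refine ⟨?_, ?_⟩
      · change X ^ _ ∣ rem d - D U b (C (c (rem d) d) * X ^ d)
        obtain ⟨h1, h2⟩ := H.D_lead b (d := d) (f := C (c (rem d) d) * X ^ d) (dvd_mul_left _ _)
        refine X_pow_dvd_iff.mpr fun j hj => ?_
        rcases (show j ≤ d + n by omega).lt_or_eq with hj | rfl
        · rw [map_sub, X_pow_dvd_iff.mp ih.1 j hj, X_pow_dvd_iff.mp h1 j hj, sub_zero]
        · rw [map_sub, h2, sub_eq_zero, coeff_C_mul, coeff_X_pow, if_pos rfl, mul_one]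
          by_cases hc : (p : ℤ) ∣ b + d
          · rw [H.coeff_eq_zero_of_Nrm b ih.1 ih.2 (by push_cast; convert hc using 1; ring),
              (CharP.intCast_eq_zero_iff k p _).mpr hc]
            simp
          · have : ((b + d : ℤ) : k) ≠ 0 := fun h => hc ((CharP.intCast_eq_zero_iff k p _).mp h)
            rw [show c (rem d) d = coeff (d + n) (rem d) / (((b + d : ℤ) : k) * slope n) from rfl,
              mul_div_cancel₀ _ (mul_ne_zero this H.slope_ne)]
      · change Nrm U p b (rem d - D U b _) = 0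
        rw [map_sub, ih.2, H.Nrm_T, sub_zero]
  refine ⟨PowerSeries.mk fun d => c (rem d) d, ?_⟩
  refine sub_eq_zero.mp (PowerSeries.ext fun j => ?_)
  rw [map_zero]
  have hsum : ∀ d, f = rem d + D U b (∑ i ∈ range d, C (c (rem i) i) * X ^ i) := by
    intro d
    induction d with
    | zero => simp [rem]
    | succ d ih =>
      rw [Finset.sum_range_succ, map_add]
      change f = rem d - D U b (C (c (rem d) d) * X ^ d) + _
      linear_combination ih
  set h := PowerSeries.mk fun d => c (rem d) d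
  have htail : X ^ (j + 1) ∣ h - ∑ i ∈ range (j + 1), C (c (rem i) i) * X ^ i := by
    refine X_pow_dvd_iff.mpr fun l hl => ?_
    simp only [h, map_sub, coeff_mk, map_sum, coeff_C_mul, coeff_X_pow, mul_ite, mul_one, mul_zero,
      Finset.sum_ite_eq, Finset.mem_range, hl, if_true, sub_self]
  rw [hsum (j + 1), sub_add_eq_sub_sub_swap, ← map_sub, map_sub,
    X_pow_dvd_iff.mp (hrem (j + 1)).1 j (by omega),
    X_pow_dvd_iff.mp (H.D_dvd b htail) j (by omega), sub_zero]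

/-- Detecting coefficients of `(u ^ (a - m) - 1) / X ^ m`. -/
theorem IsBreak.coeff_cls (H : IsBreak U p n) (a : ℤ) {m : ℕ} {c : k⟦X⟧}
    (hc : X ^ m * c = ((U ^ (a - m) : (k⟦X⟧)ˣ) : k⟦X⟧) - 1) {e : ℕ} (he : e + m < 2 * n) :
    coeff e c = if e + m = n then ((a - m : ℤ) : k) * slope n else 0 := by
  rw [← coeff_X_pow_mul c m e, hc, H.coeff_zpow _ he]

/-- Existence of the classes. -/
theorem IsBreak.exists_cls (H : IsBreak U p n) (a : ℤ) {m : ℕ} (hm : m ≤ n) :
    ∃ c : k⟦X⟧, X ^ m * c = ((U ^ (a - m) : (k⟦X⟧)ˣ) : k⟦X⟧) - 1 := by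
  have : X ^ n ∣ ((U ^ (a - m) : (k⟦X⟧)ˣ) : k⟦X⟧) - 1 := X_pow_dvd_iff.mpr fun j hj => by
    rw [H.coeff_zpow _ (by omega), if_neg hj.ne]
  obtain ⟨c, hc⟩ := (pow_dvd_pow _ hm).trans this
  exact ⟨c, hc.symm⟩

end Groth.Agent.ASCoverX
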