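import Mathlib
import Groth.Agent.ASCoverX.Basic

/-!
# First cohomology of the local action at a totally ramified Artin–Schreier point
-/

noncomputable section

open PowerSeries Finset groupCohomology CategoryTheory

namespace Groth.Agent.ASCoverX

universe u

variable {k : Type u} [Field k] {p n : ℕ} [Fact p.Prime] [CharP k p] {U : (k⟦X⟧)ˣ} {b : ℤ}
  {G : Type u} [Group G] [Finite G] {g : G} {ρ : Representation k G (k⟦X⟧)}

theorem exists_pow (hg : ∀ x : G, x ∈ Subgroup.zpowers g) (x : G) : ∃ j : ℕ, g ^ j = x :=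
  mem_powers_iff_mem_zpowers.mpr (hg x)

theorem cocycle_pow (hρ : ∀ h, ρ g h = T U b h) (f : cocycles₁ (Rep.of ρ)) (j : ℕ) :
    f (g ^ j) = (∑ i ∈ range j, T U b ^ i : Module.End k k⟦X⟧) (f g) := by
  induction j with
  | zero => simpa using cocycles₁_map_one f
  | succ j ih =>
    have hT : ρ g = T U b := LinearMap.ext hρ
    rw [pow_succ, (mem_cocycles₁_iff (f : G → k⟦X⟧)).1 f.2 (g ^ j) g, ih, Finset.sum_range_succ]
    change ρ (g ^ j) (f g) + _ = _
    rw [map_pow, hT, LinearMap.add_apply, add_comm]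

theorem orderOf_g (hG : Nat.card G = p) (hg : ∀ x : G, x ∈ Subgroup.zpowers g) : orderOf g = p := by
  rw [orderOf_eq_card_of_forall_mem_zpowers hg, hG]

theorem Nrm_cocycle (hG : Nat.card G = p) (hρ : ∀ h, ρ g h = T U b h) (f : cocycles₁ (Rep.of ρ)) :
    Nrm U p b (f g) = 0 := by
  have h := cocycle_pow hρ f p
  rw [← hG, pow_card_eq_one', cocycles₁_map_one] at h
  rw [Nrm, ← hG]
  exact h.symm

theorem exists_cocycle (hG : Nat.card G = p) (hg : ∀ x : G, x ∈ Subgroup.zpowers g)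
    (hρ : ∀ h, ρ g h = T U b h) (c : k⟦X⟧) (hc : Nrm U p b c = 0) :
    ∃ f : cocycles₁ (Rep.of ρ), f g = c := by
  classical
  let S : ℕ → k⟦X⟧ := fun j => (∑ i ∈ range j, T U b ^ i : Module.End k k⟦X⟧) c
  have hadd : ∀ i j, S (i + j) = S i + (T U b ^ i) (S j) := fun i j => by
    simp only [S, LinearMap.sum_apply, Finset.sum_range_add, map_sum, pow_add,
      Module.End.mul_apply]
  have hper : ∀ a j, S (a + p * j) = S a := by
    intro a j
    induction j with
    | zero => simp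
    | succ j ih =>
      rw [Nat.mul_succ, ← add_assoc, hadd, ih, show S p = 0 from hc, map_zero, add_zero]
  have hmod : ∀ {i j : ℕ}, g ^ i = g ^ j → S i = S j := fun {i j} h => by
    rw [pow_eq_pow_iff_modEq, orderOf_g hG hg] at h
    rw [← Nat.mod_add_div i p, ← Nat.mod_add_div j p, hper, hper, h]
  let J : G → ℕ := fun x => (exists_pow hg x).choose
  have hJ : ∀ x, g ^ J x = x := fun x => (exists_pow hg x).choose_spec
  have hT : ρ g = T U b := LinearMap.ext hρ
  refine ⟨⟨fun x => S (J x), (mem_cocycles₁_iff (A := Rep.of ρ) _).2 fun x y => ?_⟩, ?_⟩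
  · change S (J (x * y)) = ρ x (S (J y)) + S (J x)
    rw [hmod (j := J x + J y) (by rw [pow_add, hJ, hJ, hJ]), hadd, add_comm]
    congr 1
    conv_rhs => rw [← hJ x, map_pow, hT]
  · change S (J g) = c
    rw [hmod (j := 1) (by rw [hJ, pow_one])]
    simp [S]

variable (p n b g ρ) in
/-- The detecting coefficients of a cocycle. -/
def Ψ : cocycles₁ (Rep.of ρ) →ₗ[k] (↥(E p n b) → k) where
  toFun f e := coeff (e : ℕ) (f g)
  map_add' _ _ := funext fun _ => map_add _ _ _
  map_smul' _ _ := funext fun _ => (coeff _).map_smul _ _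

theorem ker_Ψ (H : IsBreak U p n) (hG : Nat.card G = p) (hg : ∀ x : G, x ∈ Subgroup.zpowers g)
    (hρ : ∀ h, ρ g h = T U b h) :
    LinearMap.ker (Ψ p n b g ρ) = LinearMap.ker (H1π (Rep.of ρ)).hom := by
  ext f
  rw [LinearMap.mem_ker, LinearMap.mem_ker]
  constructor
  · intro hf
    obtain ⟨h, hh⟩ := H.mem_range_D b (Nrm_cocycle hG hρ f) fun e he => congrFun hf ⟨e, he⟩
    refine (H1π_eq_zero_iff f).2 ⟨h, funext fun x => ?_⟩
    have key : (⟨d₀₁ (Rep.of ρ) h, d₀₁_apply_mem_cocycles₁ (A := Rep.of ρ) h⟩ :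
        cocycles₁ (Rep.of ρ)) g = f g := by
      rw [cocycles₁.coe_mk, ← hh]
      exact congrArg (· - h) (hρ h)
    obtain ⟨j, rfl⟩ := exists_pow hg x
    calc _ = (⟨d₀₁ (Rep.of ρ) h, d₀₁_apply_mem_cocycles₁ (A := Rep.of ρ) h⟩ :
          cocycles₁ (Rep.of ρ)) (g ^ j) := rfl
      _ = _ := by rw [cocycle_pow hρ, key, ← cocycle_pow hρ]
  · intro hf
    obtain ⟨h, hh⟩ := (H1π_eq_zero_iff f).1 hf
    funext e
    change coeff (e : ℕ) (f g) = 0
    rw [← hh]
    change coeff (e : ℕ) (ρ g h - h) = 0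
    rw [hρ]
    exact H.coeff_D_eq_zero b h (Finset.mem_range.mp (Finset.mem_filter.mp e.2).1)

theorem mem_E {e : ℕ} : e ∈ E p n b ↔ e < n ∧ ¬ (p : ℤ) ∣ b + e - n := by
  simp [E]

theorem exists_basis_cocycle (H : IsBreak U p n) (hG : Nat.card G = p)
    (hg : ∀ x : G, x ∈ Subgroup.zpowers g) (hρ : ∀ h, ρ g h = T U b h) (e : ↥(E p n b)) :
    ∃ f : cocycles₁ (Rep.of ρ),
      X ^ (n - e) * f g = ((U ^ (b - (n - e : ℕ)) : (k⟦X⟧)ˣ) : k⟦X⟧) - 1 := by
  obtain ⟨c, hc⟩ := H.exists_cls b (m := n - e) (Nat.sub_le _ _)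
  obtain ⟨f, hf⟩ := exists_cocycle hG hg hρ c (H.Nrm_of_mul b hc)
  exact ⟨f, by rw [hf, hc]⟩

theorem Ψ_basis_cocycle (H : IsBreak U p n) (e : ↥(E p n b)) (f : cocycles₁ (Rep.of ρ))
    (hf : X ^ (n - e) * f g = ((U ^ (b - (n - e : ℕ)) : (k⟦X⟧)ˣ) : k⟦X⟧) - 1) :
    Ψ p n b g ρ f = Pi.single e (((b - (n - e : ℕ) : ℤ) : k) * slope n) := by
  funext e'
  have he := (mem_E.mp e.2).1
  have he' := (mem_E.mp e'.2).1
  change coeff (e' : ℕ) (f g) = _
  rw [H.coeff_cls b hf (by omega), Pi.single_apply]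
  exact if_congr ⟨fun h => Subtype.ext (by omega), fun h => by rw [h]; omega⟩ rfl rfl

theorem cast_ne_of_mem (e : ↥(E p n b)) : ((b - (n - e : ℕ) : ℤ) : k) ≠ 0 := fun h => by
  obtain ⟨he, hd⟩ := mem_E.mp e.2
  refine hd ?_
  have := (CharP.intCast_eq_zero_iff k p _).mp h
  rwa [Nat.cast_sub he.le, sub_sub_eq_add_sub] at this

theorem Ψ_surjective (H : IsBreak U p n) (hG : Nat.card G = p)
    (hg : ∀ x : G, x ∈ Subgroup.zpowers g) (hρ : ∀ h, ρ g h = T U b h) :
    Function.Surjective (Ψ p n b g ρ) := by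
  classical
  intro v
  choose f hf using exists_basis_cocycle H hG hg hρ
  refine ⟨∑ e, (v e / (((b - (n - e : ℕ) : ℤ) : k) * slope n)) • f e, funext fun e' => ?_⟩
  rw [map_sum, Finset.sum_apply, Finset.sum_eq_single e']
  · rw [map_smul, Pi.smul_apply, Ψ_basis_cocycle H e' _ (hf e'), Pi.single_eq_same, smul_eq_mul,
      div_mul_cancel₀ _ (mul_ne_zero (cast_ne_of_mem e') H.slope_ne)]
  · intro e _ he
    rw [map_smul, Pi.smul_apply, Ψ_basis_cocycle H e _ (hf e), Pi.single_eq_of_ne he.symm,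
      smul_zero]
  · simp

/-- First cohomology is the space of detecting coefficients. -/
def h1Equiv (H : IsBreak U p n) (hG : Nat.card G = p) (hg : ∀ x : G, x ∈ Subgroup.zpowers g)
    (hρ : ∀ h, ρ g h = T U b h) : groupCohomology.H1 (Rep.of ρ) ≃ₗ[k] (↥(E p n b) → k) :=
  (LinearMap.quotKerEquivOfSurjective (H1π (Rep.of ρ)).hom
    ((ModuleCat.epi_iff_surjective _).1 inferInstance)).symm ≪≫ₗ
    Submodule.quotEquivOfEq _ _ (ker_Ψ H hG hg hρ).symm ≪≫ₗ
    LinearMap.quotKerEquivOfSurjective _ (Ψ_surjective H hG hg hρ)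

theorem h1Equiv_H1π (H : IsBreak U p n) (hG : Nat.card G = p)
    (hg : ∀ x : G, x ∈ Subgroup.zpowers g)
    (hρ : ∀ h, ρ g h = T U b h) (f : cocycles₁ (Rep.of ρ)) :
    h1Equiv H hG hg hρ (H1π (Rep.of ρ) f) = Ψ p n b g ρ f := by
  have hs : Function.Surjective (H1π (Rep.of ρ)).hom :=
    (ModuleCat.epi_iff_surjective _).1 inferInstance
  have : (LinearMap.quotKerEquivOfSurjective (H1π (Rep.of ρ)).hom hs).symm
      ((H1π (Rep.of ρ)).hom f) = Submodule.Quotient.mk f := by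
    rw [LinearEquiv.symm_apply_eq]; rfl
  simp only [h1Equiv, LinearEquiv.trans_apply]
  erw [this]
  rfl

/-! ### Counting -/

theorem card_E (a : ℤ) (hp : 0 < p) :
    ((E p n a).card : ℤ) = n - (a - 1) / (p : ℤ) + (a - 1 - n) / (p : ℤ) := by
  have hp' : (0 : ℤ) < p := by exact_mod_cast hp
  let A := (Finset.range n).filter fun e : ℕ => (p : ℤ) ∣ a + e - n
  have h1 : ((E p n a).card : ℤ) + A.card = n := by
    rw [← Nat.cast_add, E, add_comm,
      Finset.card_filter_add_card_filter_not (s := Finset.range n) (fun e : ℕ => (p : ℤ) ∣ a + e - n),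
      Finset.card_range]
  have h2 : A.card = ((Finset.Ioc (a - 1 - n) (a - 1)).filter fun x => (p : ℤ) ∣ x).card := by
    refine Finset.card_nbij' (fun e : ℕ => a + e - n) (fun x => (x - a + n).toNat) ?_ ?_ ?_ ?_
    · intro e he
      simp only [A, Finset.coe_filter, Finset.mem_range, Set.mem_setOf_eq] at he
      simp only [Finset.coe_filter, Finset.mem_Ioc, Set.mem_setOf_eq]
      exact ⟨⟨by omega, by omega⟩, he.2⟩
    · intro x hx
      simp only [Finset.coe_filter, Finset.mem_Ioc, Set.mem_setOf_eq] at hx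
      simp only [A, Finset.coe_filter, Finset.mem_range, Set.mem_setOf_eq]
      refine ⟨by omega, ?_⟩
      rw [show a + ((x - a + n).toNat : ℤ) - n = x by omega]
      exact hx.2
    · intro e _
      simp only
      omega
    · intro x hx
      simp only [Finset.coe_filter, Finset.mem_Ioc, Set.mem_setOf_eq] at hx
      simp only
      omega
  rw [h2, Int.Ioc_filter_dvd_card _ _ hp', show ((p : ℤ) : ℚ) = (p : ℚ) by norm_cast,
    Rat.floor_intCast_div_natCast, Rat.floor_intCast_div_natCast] at h1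
  have : (a - 1 - n) / (p : ℤ) ≤ (a - 1) / (p : ℤ) := Int.ediv_le_ediv hp' (by omega)
  rw [max_eq_left (by linarith)] at h1
  linarith

end Groth.Agent.ASCoverX
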