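import Mathlib
import Groth.Agent.ASCoverX.Cohom

/-!
# The derivative on first cohomology at a totally ramified Artin–Schreier point
-/

noncomputable section

open PowerSeries Finset groupCohomology CategoryTheory

namespace Groth.Agent.ASCoverX

universe u

/-- The degrees in the image of the derivative. -/
def S (p n : ℕ) : Finset ℕ :=
  (range (n - 1)).filter fun e => ¬ p ∣ e + 1 ∧ ¬ p ∣ n - (e + 1)

theorem card_S {p n : ℕ} (hp : p.Prime) (hn : 0 < n) (hpn : ¬ p ∣ n) :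
    ((S p n).card : ℤ) = ((n + 1) * (p - 1) : ℤ) / p - 1 - (n - 1 : ℤ) / p := by
  classical
  let A := (range (n - 1)).filter fun e => p ∣ e + 1
  let B := (range (n - 1)).filter fun e => p ∣ n - (e + 1)
  have hA : A.card = (n - 1) / p := by
    rw [← Nat.Ioc_filter_dvd_card_eq_div (n - 1) p]
    refine Finset.card_nbij' (· + 1) (· - 1) ?_ ?_ ?_ ?_
    · intro e he
      simp [A] at he ⊢
      exact ⟨by omega, he.2⟩
    · intro x hx
      simp [A] at hx ⊢
      refine ⟨by omega, ?_⟩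
      rw [Nat.sub_add_cancel (by omega)]
      exact hx.2
    · intro e _; simp
    · intro x hx
      simp at hx
      simp only
      omega
  have hB : B.card = A.card := by
    refine Finset.card_nbij' (fun e => n - 2 - e) (fun e => n - 2 - e) ?_ ?_ ?_ ?_
    all_goals intro e he; simp [A, B] at he ⊢
    · refine ⟨by omega, ?_⟩
      rw [show n - 2 - e + 1 = n - (e + 1) by omega]
      exact he.2
    · refine ⟨by omega, ?_⟩
      rw [show n - (n - 2 - e + 1) = e + 1 by omega]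
      exact he.2
    · omega
    · omega
  have hd : Disjoint A B := Finset.disjoint_filter.mpr fun e he h1 h2 => hpn (by
    have := Nat.dvd_add h1 h2
    rwa [Nat.add_sub_cancel' (by have := Finset.mem_range.mp he; omega)] at this)
  have hS : S p n = range (n - 1) \ (A ∪ B) := by
    ext e
    simp [S, A, B]
    tauto
  have hc : (S p n).card = (n - 1) - 2 * ((n - 1) / p) := by
    rw [hS, Finset.card_sdiff_of_subset (Finset.union_subset (filter_subset _ _) (filter_subset _ _)),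
      Finset.card_union_of_disjoint hd, hB, hA, Finset.card_range, two_mul]
  have hle : 2 * ((n - 1) / p) ≤ n - 1 :=
    (Nat.mul_le_mul hp.two_le le_rfl).trans (Nat.mul_div_le _ _)
  rw [hc, Nat.cast_sub hle]
  obtain ⟨q, r, hnq, hr, hr0⟩ : ∃ q r, n = p * q + r ∧ r < p ∧ 0 < r :=
    ⟨n / p, n % p, (Nat.div_add_mod n p).symm, Nat.mod_lt _ hp.pos,
      Nat.pos_of_ne_zero fun h => hpn (Nat.dvd_of_mod_eq_zero h)⟩
  have h1 : (n - 1) / p = q := Nat.div_eq_of_lt_le (by rw [mul_comm]; omega)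
    (by rw [Nat.succ_mul, mul_comm]; omega)
  have hp1 : (0 : ℤ) < p := by exact_mod_cast hp.pos
  have h2 : ((n : ℤ) - 1) / p = q := by
    rw [show (n : ℤ) - 1 = ((n - 1 : ℕ) : ℤ) by omega, ← Int.natCast_ediv, h1]
  have h3 : ((n + 1) * (p - 1) : ℤ) / p = (n : ℤ) - q := by
    subst hnq
    push_cast
    rw [Int.ediv_eq_iff_of_pos hp1]
    constructor <;> nlinarith
  rw [h1, h2, h3]
  subst hnq
  omega

variable {k : Type u} [Field k] {p n : ℕ} [Fact p.Prime] [CharP k p]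
  {G : Type u} [Group G] [Finite G]

theorem finrank_range_map_derivative_aux (U : (k⟦X⟧)ˣ) (H : IsBreak U p n) (g : G)
    (hG : Nat.card G = p) (hg : ∀ x : G, x ∈ Subgroup.zpowers g)
    (ρ₀ ρ₁ : Representation k G (k⟦X⟧))
    (hρ₀ : ∀ h, ρ₀ g h = T U 0 h) (hρ₁ : ∀ h, ρ₁ g h = T U ((n + 1 : ℕ) : ℤ) h)
    (φ : Rep.of ρ₀ ⟶ Rep.of ρ₁) (hφ : ∀ h : k⟦X⟧, φ.hom h = PowerSeries.derivative k h) :
    Module.Finite k (LinearMap.range ((groupCohomology.functor k G 1).map φ).hom) ∧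
      Module.finrank k (LinearMap.range ((groupCohomology.functor k G 1).map φ).hom) =
        (S p n).card := by
  classical
  let b₁ : ℤ := ((n + 1 : ℕ) : ℤ)
  let e₁ : ((groupCohomology.functor k G 1).obj (Rep.of ρ₁) : ModuleCat k) ≃ₗ[k] (↥(E p n b₁) → k) :=
    h1Equiv H hG hg hρ₁
  let F := ((groupCohomology.functor k G 1).map φ).hom
  let mC := (mapCocycles₁ (A := Rep.of ρ₀) (B := Rep.of ρ₁) (MonoidHom.id G) φ).hom
  let L : cocycles₁ (Rep.of ρ₀) →ₗ[k] (↥(E p n b₁) → k) := (Ψ p n b₁ g ρ₁).comp mC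
  have hcomm : ∀ f, e₁ (F (H1π (Rep.of ρ₀) f)) = L f := fun f => by
    rw [show F (H1π (Rep.of ρ₀) f) = H1π (Rep.of ρ₁) (mC f) from
      congrArg (fun m => m.hom f) (H1π_comp_map (A := Rep.of ρ₀) (B := Rep.of ρ₁) (MonoidHom.id G) φ)]
    exact h1Equiv_H1π H hG hg hρ₁ _
  have hL : ∀ f (e : ↥(E p n b₁)),
      L f e = coeff ((e : ℕ) + 1) (f g) * (((e : ℕ) + 1 : ℕ) : k) := fun f e => by
    change coeff (e : ℕ) (φ.hom (f g)) = _
    rw [hφ, coeff_derivative]
    push_cast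
    rfl
  have mem₁ : ∀ {e : ℕ}, e ∈ E p n b₁ ↔ e < n ∧ ¬ p ∣ e + 1 := fun {e} => by
    rw [mem_E, show b₁ + (e : ℤ) - n = ((e + 1 : ℕ) : ℤ) by simp [b₁]; ring,
      Int.natCast_dvd_natCast]
  have hS : ∀ s ∈ S p n, s ∈ E p n b₁ := fun s hs => by
    simp [S] at hs
    exact mem₁.mpr ⟨by omega, hs.2.1⟩
  let ι : (↥(S p n) → k) →ₗ[k] (↥(E p n b₁) → k) :=
    { toFun := fun v e => if h : (e : ℕ) ∈ S p n then v ⟨e, h⟩ else 0
      map_add' := fun v w => funext fun e => by simp only [Pi.add_apply]; split_ifs <;> simp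
      map_smul' := fun c v => funext fun e => by
        simp only [Pi.smul_apply, RingHom.id_apply]; split_ifs <;> simp }
  have hι : Function.Injective ι := fun v w h => funext fun s => by
    simpa [ι] using congrFun h ⟨s, hS s s.2⟩
  choose fb hfb using exists_basis_cocycle H hG hg hρ₀
  have hLb : ∀ e : ↥(E p n (0 : ℤ)), ∀ e' : ↥(E p n b₁),
      L (fb e) e' = if (e : ℕ) = (e' : ℕ) + 1 then
        ((0 - (n - e : ℕ) : ℤ) : k) * slope n * ((e : ℕ) : k) else 0 := fun e e' => by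
    have he := (mem_E.mp e.2).1
    have he' := (mem₁.mp e'.2).1
    rw [hL]
    by_cases h0 : (e : ℕ) = 0
    · rw [if_neg (by omega)]
      have hc := hfb e
      rw [h0, Nat.sub_zero] at hc
      have hone : fb e g = 1 := by
        refine mul_left_cancel₀ (pow_ne_zero n X_ne_zero) ?_
        rw [hc, mul_one, sub_eq_iff_eq_add', zero_sub, zpow_neg, zpow_natCast]
        refine Units.inv_eq_of_mul_eq_one_right ?_
        rw [Units.val_pow_eq_pow_val, add_comm]
        linear_combination H.root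
      rw [hone, coeff_one, if_neg (by omega), zero_mul]
    · rw [H.coeff_cls 0 (hfb e) (by omega)]
      by_cases h1 : (e : ℕ) = (e' : ℕ) + 1
      · rw [if_pos (by omega), if_pos h1, h1]
      · rw [if_neg (by omega), if_neg h1, zero_mul]
  have hker : ∀ f, Ψ p n (0 : ℤ) g ρ₀ f = 0 → L f = 0 := fun f hf => funext fun e => by
    obtain ⟨h, hh⟩ := H.mem_range_D 0 (Nrm_cocycle hG hρ₀ f) fun j hj => congrFun hf ⟨j, hj⟩
    have he := (mem₁.mp e.2).1
    rw [hL, ← hh]
    rcases (show (e : ℕ) + 1 ≤ n by omega).lt_or_eq with h' | h'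
    · rw [H.coeff_D_eq_zero 0 h h', zero_mul]; rfl
    · have := (H.D_lead 0 (d := 0) (f := h) (by simp)).2
      rw [zero_add] at this
      rw [h', this]
      simp
  have hrange : LinearMap.range L = LinearMap.range ι := by
    refine le_antisymm ?_ ?_
    · rintro _ ⟨f, rfl⟩
      refine ⟨fun s => L f ⟨s, hS s s.2⟩, funext fun e' => ?_⟩
      change (if h : (e' : ℕ) ∈ S p n then L f ⟨e', _⟩ else 0) = L f e'
      split_ifs with hs
      · rfl
      symm
      obtain ⟨v, hv⟩ : ∃ v : ↥(E p n (0 : ℤ)) → k,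
          Ψ p n (0 : ℤ) g ρ₀ f = Ψ p n (0 : ℤ) g ρ₀ (∑ e, v e • fb e) := by
        refine ⟨fun e => Ψ p n (0 : ℤ) g ρ₀ f e / (((0 - (n - e : ℕ) : ℤ) : k) * slope n),
          funext fun e => ?_⟩
        rw [map_sum, Finset.sum_apply, Finset.sum_eq_single e]
        · rw [map_smul, Pi.smul_apply, Ψ_basis_cocycle H e _ (hfb e), Pi.single_eq_same,
            smul_eq_mul, div_mul_cancel₀ _ (mul_ne_zero (cast_ne_of_mem e) H.slope_ne)]
        · intro e₂ _ he
          rw [map_smul, Pi.smul_apply, Ψ_basis_cocycle H e₂ _ (hfb e₂),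
            Pi.single_eq_of_ne he.symm, smul_zero]
        · simp
      have hLf : L f = L (∑ e, v e • fb e) := by
        rw [← sub_eq_zero, ← map_sub]
        exact hker _ (by rw [map_sub, hv, sub_self])
      rw [hLf, map_sum, Finset.sum_apply]
      refine Finset.sum_eq_zero fun e _ => ?_
      rw [map_smul, Pi.smul_apply, hLb, if_neg, smul_zero]
      intro hee
      obtain ⟨he, hd⟩ := mem_E.mp e.2
      refine hs ?_
      obtain ⟨he', hd'⟩ := mem₁.mp e'.2
      simp only [S, Finset.mem_filter, Finset.mem_range]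
      refine ⟨by omega, hd', fun hdv => hd ?_⟩
      rw [← hee] at hdv
      rw [show (0 : ℤ) + (e : ℕ) - n = -(((n - e : ℕ)) : ℤ) by omega, dvd_neg,
        Int.natCast_dvd_natCast]
      exact hdv
    · rintro _ ⟨v, rfl⟩
      have hmem : ∀ s : ↥(S p n), (s : ℕ) + 1 ∈ E p n (0 : ℤ) := fun s => by
        have this : (s : ℕ) < n - 1 ∧ ¬ p ∣ (s : ℕ) + 1 ∧ ¬ p ∣ n - ((s : ℕ) + 1) := by
          obtain ⟨h1, h2⟩ := Finset.mem_filter.mp s.2
          exact ⟨Finset.mem_range.mp h1, h2⟩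
        refine mem_E.mpr ⟨by omega, ?_⟩
        rw [show (0 : ℤ) + ((s : ℕ) + 1 : ℕ) - n = -(((n - ((s : ℕ) + 1) : ℕ)) : ℤ) by omega,
          dvd_neg, Int.natCast_dvd_natCast]
        exact this.2.2
      refine ⟨∑ s : ↥(S p n), (v s / (((0 - (n - ((s : ℕ) + 1) : ℕ) : ℤ) : k) * slope n *
        (((s : ℕ) + 1 : ℕ) : k))) • fb ⟨_, hmem s⟩, funext fun e' => ?_⟩
      change _ = if h : (e' : ℕ) ∈ S p n then v ⟨e', h⟩ else 0
      rw [map_sum, Finset.sum_apply]
      split_ifs with hs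
      · rw [Finset.sum_eq_single ⟨(e' : ℕ), hs⟩]
        · rw [map_smul, Pi.smul_apply, hLb, if_pos rfl, smul_eq_mul, div_mul_cancel₀]
          refine mul_ne_zero (mul_ne_zero (cast_ne_of_mem ⟨_, hmem ⟨_, hs⟩⟩) H.slope_ne) ?_
          exact fun h => (mem₁.mp e'.2).2 ((CharP.cast_eq_zero_iff k p _).mp h)
        · intro s _ hne
          rw [map_smul, Pi.smul_apply, hLb, if_neg, smul_zero]
          exact fun h => hne (Subtype.ext (by simpa using h))
        · simp
      · refine Finset.sum_eq_zero fun s _ => ?_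
        rw [map_smul, Pi.smul_apply, hLb, if_neg, smul_zero]
        exact fun h => hs (by simp at h; rw [← h]; exact s.2)
  have heq : (LinearMap.range F).map (e₁ : _ →ₗ[k] _) = LinearMap.range ι := by
    rw [← hrange, ← LinearMap.range_comp]
    refine le_antisymm ?_ ?_
    · rintro _ ⟨x, rfl⟩
      obtain ⟨f, rfl⟩ := (ModuleCat.epi_iff_surjective (H1π (Rep.of ρ₀))).1 inferInstance x
      exact ⟨f, (hcomm f).symm⟩
    · rintro _ ⟨f, rfl⟩
      exact ⟨H1π (Rep.of ρ₀) f, hcomm f⟩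
  let ee : LinearMap.range F ≃ₗ[k] (↥(S p n) → k) :=
    e₁.submoduleMap _ ≪≫ₗ LinearEquiv.ofEq _ _ heq ≪≫ₗ (LinearEquiv.ofInjective ι hι).symm
  exact ⟨Module.Finite.equiv ee.symm,
    by rw [ee.finrank_eq, Module.finrank_fintype_fun_eq_card, Fintype.card_coe]⟩

theorem finrank_range_map_derivative (p : ℕ) [Fact p.Prime] [CharP k p] (n : ℕ) (hn : 0 < n)
    (hpn : ¬ p ∣ n) (u : k⟦X⟧) (hu1 : constantCoeff u = 1) (hun : u ^ n * (1 + X ^ n) = 1)
    (g : G) (hG : Nat.card G = p) (hg : ∀ x : G, x ∈ Subgroup.zpowers g)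
    (ρ₀ ρ₁ : Representation k G (k⟦X⟧))
    (hρ₀ : ∀ h, ρ₀ g h = subst (X * u) h)
    (hρ₁ : ∀ h, ρ₁ g h = u ^ (n + 1) * subst (X * u) h)
    (φ : Rep.of ρ₀ ⟶ Rep.of ρ₁) (hφ : ∀ h : k⟦X⟧, φ.hom h = PowerSeries.derivative k h) :
    Module.Finite k (LinearMap.range ((groupCohomology.functor k G 1).map φ).hom) ∧
      (Module.finrank k (LinearMap.range ((groupCohomology.functor k G 1).map φ).hom) : ℤ) =
        ((n + 1) * (p - 1) : ℤ) / p - 1 - (n - 1 : ℤ) / p := by
  have hu : IsUnit u := isUnit_iff_constantCoeff.mpr (hu1 ▸ isUnit_one)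
  have H : IsBreak hu.unit p n := ⟨hn, hpn, hu1, hun⟩
  obtain ⟨h1, h2⟩ := finrank_range_map_derivative_aux hu.unit H g hG hg ρ₀ ρ₁
    (fun h => by rw [hρ₀, T_apply, σ_apply]; simp)
    (fun h => by rw [hρ₁, T_apply, σ_apply, zpow_natCast, Units.val_pow_eq_pow_val]; rfl) φ hφ
  exact ⟨h1, by rw [h2, card_S Fact.out hn hpn]⟩

end Groth.Agent.ASCoverX
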